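import Groth.Agent.Lib.ProjStalk27.Proj
import Groth.Agent.Lib.GorFlat.Main
import Mathlib.RingTheory.Flat.Localization
import Mathlib.RingTheory.Localization.Away.Basic

/-! A homogeneous localisation with a unit of degree one has flat inclusion into the localisation. -/

set_option autoImplicit false
set_option linter.style.haveILetI false

universe u

open AlgebraicGeometry HomogeneousLocalization DirectSum IsLocalRing
open scoped Polynomial

namespace GrothLib.ProjGor

variable {A : Type u} [CommRing A] (𝒜 : ℕ → AddSubgroup A) [GradedRing 𝒜] (P : Ideal A) [P.IsPrime]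

/-- Homogeneous elements outside `P`. -/
def homCompl : Submonoid A where
  carrier := {a | a ∉ P ∧ ∃ i, a ∈ 𝒜 i}
  one_mem' := ⟨fun h => (Ideal.IsPrime.ne_top ‹_›) ((Ideal.eq_top_iff_one P).2 h), 0, SetLike.one_mem_graded 𝒜⟩
  mul_mem' := fun ⟨ha, i, hi⟩ ⟨hb, j, hj⟩ =>
    ⟨fun h => ((Ideal.IsPrime.mem_or_mem ‹_› h).elim ha hb), i + j, SetLike.mul_mem_graded hi hj⟩

theorem homCompl_le : homCompl 𝒜 P ≤ P.primeCompl := fun _ h => h.1

variable {𝒜 P}

/-- An identity of homogeneous elements holding after localisation at `P` holds after inverting homogeneous elements. -/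
theorem eq_of_val_eq {D : ℕ} {x y : A} (hx : x ∈ 𝒜 D) (hy : y ∈ 𝒜 D)
    (h : algebraMap A (Localization.AtPrime P) x = algebraMap A (Localization.AtPrime P) y) :
    algebraMap A (Localization (homCompl 𝒜 P)) x = algebraMap A (Localization (homCompl 𝒜 P)) y := by
  classical
  obtain ⟨t, ht⟩ := (IsLocalization.eq_iff_exists P.primeCompl (Localization.AtPrime P)).1 h
  obtain ⟨i, hi⟩ : ∃ i, (decompose 𝒜 (t : A) i : A) ∉ P := by
    by_contra hall
    push Not at hall
    refine t.2 ?_
    rw [← DirectSum.sum_support_decompose 𝒜 (t : A)]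
    exact Ideal.sum_mem _ fun i _ => hall i
  refine (IsLocalization.eq_iff_exists (homCompl 𝒜 P) _).2 ⟨⟨_, hi, i, (decompose 𝒜 (t : A) i).2⟩, ?_⟩
  show (decompose 𝒜 (t : A) i : A) * x = (decompose 𝒜 (t : A) i : A) * y
  rw [← DirectSum.coe_decompose_mul_add_of_right_mem 𝒜 hx, ← DirectSum.coe_decompose_mul_add_of_right_mem 𝒜 hy, ht]

/-- The denominator as a homogeneous element outside `P`. -/
def denH (c : NumDenSameDeg 𝒜 P.primeCompl) : homCompl 𝒜 P :=
  ⟨(c.den : A), (⟨c.den_mem, c.deg, c.den.2⟩ : (c.den : A) ∉ P ∧ ∃ i, (c.den : A) ∈ 𝒜 i)⟩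

@[simp] theorem coe_denH (c : NumDenSameDeg 𝒜 P.primeCompl) : (denH c : A) = c.den := rfl

theorem mk'_eq_of_val_eq {c c' : NumDenSameDeg 𝒜 P.primeCompl}
    (h : (mk c : HomogeneousLocalization.AtPrime 𝒜 P) = mk c') :
    IsLocalization.mk' (Localization (homCompl 𝒜 P)) (c.num : A) (denH c) =
      IsLocalization.mk' (Localization (homCompl 𝒜 P)) (c'.num : A) (denH c') := by
  have h' := congrArg (GrothLib.ProjStalk27.incl 𝒜 P) h
  rw [GrothLib.ProjStalk27.incl_mk, GrothLib.ProjStalk27.incl_mk, IsLocalization.mk'_eq_iff_eq] at h'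
  rw [IsLocalization.mk'_eq_iff_eq]
  refine eq_of_val_eq (D := c.deg + c'.deg) ?_ ?_ h'
  · rw [add_comm]; exact SetLike.mul_mem_graded c'.den.2 c.num.2
  · exact SetLike.mul_mem_graded c.den.2 c'.num.2

/-- The degree zero part maps into the homogeneous localisation of `A`. -/
noncomputable def toHom : HomogeneousLocalization.AtPrime 𝒜 P →+* Localization (homCompl 𝒜 P) where
  toFun := Quotient.lift (fun c : NumDenSameDeg 𝒜 P.primeCompl =>
    IsLocalization.mk' (Localization (homCompl 𝒜 P)) (c.num : A) (denH c))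
    fun c c' h => mk'_eq_of_val_eq (Quotient.sound h)
  map_one' := by
    show IsLocalization.mk' (Localization (homCompl 𝒜 P)) ((1 : NumDenSameDeg 𝒜 P.primeCompl).num : A) _ = 1
    exact IsLocalization.mk'_self' (Localization (homCompl 𝒜 P))
  map_mul' x y := by
    obtain ⟨c, rfl⟩ := mk_surjective x
    obtain ⟨c', rfl⟩ := mk_surjective y
    show IsLocalization.mk' (Localization (homCompl 𝒜 P)) ((c * c').num : A) _ = _ * _
    exact (IsLocalization.mk'_mul (Localization (homCompl 𝒜 P)) (c.num : A) (c'.num : A) (denH c) (denH c'))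
  map_zero' := by
    show IsLocalization.mk' (Localization (homCompl 𝒜 P)) ((0 : NumDenSameDeg 𝒜 P.primeCompl).num : A) _ = 0
    simp
  map_add' x y := by
    obtain ⟨c, rfl⟩ := mk_surjective x
    obtain ⟨c', rfl⟩ := mk_surjective y
    show IsLocalization.mk' (Localization (homCompl 𝒜 P)) ((c + c').num : A) _ =
      IsLocalization.mk' (Localization (homCompl 𝒜 P)) (c.num : A) (denH c) +
      IsLocalization.mk' (Localization (homCompl 𝒜 P)) (c'.num : A) (denH c')
    rw [← IsLocalization.mk'_add, IsLocalization.mk'_eq_iff_eq]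
    congr 1
    simp only [NumDenSameDeg.num_add, NumDenSameDeg.den_add, Submonoid.coe_mul, coe_denH]
    ring

theorem toHom_mk (c : NumDenSameDeg 𝒜 P.primeCompl) :
    toHom (mk c) = IsLocalization.mk' (Localization (homCompl 𝒜 P)) (c.num : A) (denH c) :=
  rfl

/-- The inclusion of the homogeneous localisation is flat when there is a unit of degree one. -/
theorem flat_incl {d : ℕ} {v w : A} (hv : v ∈ 𝒜 (d + 1)) (hvP : v ∉ P) (hw : w ∈ 𝒜 d) (hwP : w ∉ P) :
    Module.Flat (HomogeneousLocalization.AtPrime 𝒜 P) (Localization.AtPrime P) := by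
  classical
  let S := HomogeneousLocalization.AtPrime 𝒜 P
  let L0 := Localization (homCompl 𝒜 P)
  let L := Localization.AtPrime P
  let v' : homCompl 𝒜 P := ⟨v, hvP, d + 1, hv⟩
  let w' : homCompl 𝒜 P := ⟨w, hwP, d, hw⟩
  let u : L0 := IsLocalization.mk' L0 v w'
  have hu : u * IsLocalization.mk' L0 w v' = 1 := by
    rw [← IsLocalization.mk'_mul, IsLocalization.mk'_eq_iff_eq_mul, one_mul]
    show _ = algebraMap A L0 (w * v)
    rw [mul_comm]
  letI : Algebra S L0 := toHom.toAlgebra
  let φ : S[X] →+* L0 := Polynomial.eval₂RingHom toHom u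
  letI : Algebra S[X] L0 := φ.toAlgebra
  haveI : IsScalarTower S S[X] L0 := IsScalarTower.of_algebraMap_eq fun s => by
    show toHom s = φ (Polynomial.C s)
    simp [φ]
  haveI : IsLocalization (Submonoid.powers (Polynomial.X : S[X])) L0 :=
    { map_units := fun y => by
        obtain ⟨k, hk⟩ := y.2
        show IsUnit (φ (y : S[X]))
        rw [← hk, map_pow]
        refine IsUnit.pow k ?_
        rw [show φ Polynomial.X = u by simp [φ]]
        exact IsUnit.of_mul_eq_one _ hu
      surj := fun z => by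
        obtain ⟨⟨a, s⟩, rfl⟩ := IsLocalization.mk'_surjective (homCompl 𝒜 P) z
        obtain ⟨e, he⟩ := s.2.2
        have hden : ∀ i, (s : A) * w ^ e * v ^ i ∈ homCompl 𝒜 P := fun i =>
          mul_mem (mul_mem s.2 (pow_mem w'.2 e)) (pow_mem v'.2 i)
        have hnum : ∀ i, (decompose 𝒜 a i : A) * v ^ e * w ^ i ∈ 𝒜 (i + e • (d + 1) + i • d) := fun i =>
          SetLike.mul_mem_graded (SetLike.mul_mem_graded (decompose 𝒜 a i).2 (SetLike.pow_mem_graded e hv))
            (SetLike.pow_mem_graded i hw)
        have hdeg : ∀ i, e + e • d + i • (d + 1) = i + e • (d + 1) + i • d := fun i => by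
          simp only [smul_eq_mul]; ring
        let c : ℕ → S := fun i => mk ⟨i + e • (d + 1) + i • d, ⟨_, hnum i⟩,
          ⟨(s : A) * w ^ e * v ^ i, hdeg i ▸ SetLike.mul_mem_graded (SetLike.mul_mem_graded he
            (SetLike.pow_mem_graded e hw)) (SetLike.pow_mem_graded i hv)⟩, (hden i).1⟩
        refine ⟨⟨∑ i ∈ (decompose 𝒜 a).support, Polynomial.C (c i) * Polynomial.X ^ i,
          ⟨Polynomial.X ^ e, e, rfl⟩⟩, ?_⟩
        show IsLocalization.mk' L0 a s * φ (Polynomial.X ^ e) = φ _
        simp only [map_sum, map_mul, map_pow, φ, Polynomial.coe_eval₂RingHom, Polynomial.eval₂_C,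
          Polynomial.eval₂_X]
        conv_lhs => rw [← DirectSum.sum_support_decompose 𝒜 a]
        rw [IsLocalization.mk'_eq_mul_mk'_one, map_sum, Finset.sum_mul, Finset.sum_mul]
        refine Finset.sum_congr rfl fun i _ => ?_
        rw [← IsLocalization.mk'_eq_mul_mk'_one]
        show _ = toHom (mk _) * _
        rw [toHom_mk, ← IsLocalization.mk'_pow, ← IsLocalization.mk'_pow, ← IsLocalization.mk'_mul,
          ← IsLocalization.mk'_mul, IsLocalization.mk'_eq_iff_eq]
        congr 1
        simp only [Submonoid.coe_mul, SubmonoidClass.coe_pow, w', coe_denH]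
        ring
      exists_of_eq := fun {f g} h => by
        refine ⟨1, ?_⟩
        rw [OneMemClass.coe_one, one_mul, one_mul]
        have h0 : φ (f - g) = 0 := by rw [map_sub]; exact sub_eq_zero.2 h
        suffices ∀ q : S[X], φ q = 0 → q = 0 from sub_eq_zero.1 (this _ h0)
        intro q hq
        let cc : ℕ → NumDenSameDeg 𝒜 P.primeCompl := fun n => (mk_surjective (q.coeff n)).choose
        have hcc : ∀ n, mk (cc n) = q.coeff n := fun n => (mk_surjective (q.coeff n)).choose_spec
        let den : ℕ → homCompl 𝒜 P := fun n => denH (cc n)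
        let N := q.natDegree
        let all : homCompl 𝒜 P := ∏ m ∈ q.support, den m
        let E := ∑ m ∈ q.support, (cc m).deg
        let hh : ℕ → A := fun n =>
          ((cc n).num : A) * (((∏ m ∈ q.support.erase n, den m : homCompl 𝒜 P) : A)) * v ^ n * w ^ (N - n)
        have hmem : ∀ n ∈ q.support, hh n ∈ 𝒜 (n + (E + N * d)) := fun n hn => by
          have hprod : ((∏ m ∈ q.support.erase n, den m : homCompl 𝒜 P) : A) ∈
              𝒜 (∑ m ∈ q.support.erase n, (cc m).deg) := by
            rw [Submonoid.coe_finsetProd]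
            exact SetLike.prod_mem_graded 𝒜 _ _ fun m _ => (cc m).den.2
          have := SetLike.mul_mem_graded (SetLike.mul_mem_graded (SetLike.mul_mem_graded (cc n).num.2 hprod)
            (SetLike.pow_mem_graded n hv)) (SetLike.pow_mem_graded (N - n) hw)
          convert this using 2
          have h1 : E = (cc n).deg + ∑ m ∈ q.support.erase n, (cc m).deg := (Finset.add_sum_erase _ _ hn).symm
          have h2 : n ≤ N := Polynomial.le_natDegree_of_mem_supp n hn
          obtain ⟨r, hr⟩ := Nat.exists_eq_add_of_le h2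
          simp only [smul_eq_mul]
          rw [hr, Nat.add_sub_cancel_left, h1]
          ring
        have hterm : ∀ n ∈ q.support, algebraMap A L0 (hh n) =
            toHom (q.coeff n) * u ^ n * algebraMap A L0 ((all : A) * w ^ N) := fun n hn => by
          rw [← hcc, toHom_mk, ← IsLocalization.mk'_pow, ← IsLocalization.mk'_mul, mul_comm,
            IsLocalization.mul_mk'_eq_mk'_of_mul, eq_comm, IsLocalization.mk'_eq_iff_eq_mul, ← map_mul]
          congr 1
          have h3 : (all : A) = ((∏ m ∈ q.support.erase n, den m : homCompl 𝒜 P) : A) * (cc n).den := by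
            rw [show all = (∏ m ∈ q.support.erase n, den m) * den n from (Finset.prod_erase_mul _ _ hn).symm]
            rfl
          have h4 : w ^ N = w ^ (N - n) * w ^ n := by
            rw [← pow_add, Nat.sub_add_cancel (Polynomial.le_natDegree_of_mem_supp n hn)]
          simp only [hh, Submonoid.coe_mul, SubmonoidClass.coe_pow, w', den, coe_denH] at h3 ⊢
          rw [h3, h4]
          ring
        have hsum : algebraMap A L0 (∑ n ∈ q.support, hh n) = 0 := by
          rw [map_sum, Finset.sum_congr rfl hterm, ← Finset.sum_mul]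
          have : φ q = ∑ n ∈ q.support, toHom (q.coeff n) * u ^ n := by
            simp only [φ, Polynomial.coe_eval₂RingHom, Polynomial.eval₂_eq_sum, Polynomial.sum_def]
          rw [← this, hq, zero_mul]
        obtain ⟨t, ht⟩ := (IsLocalization.map_eq_zero_iff (homCompl 𝒜 P) L0 _).1 hsum
        obtain ⟨i, hi⟩ := t.2.2
        refine Polynomial.ext fun n => ?_
        rw [Polynomial.coeff_zero]
        by_contra hne
        have hn : n ∈ q.support := Polynomial.mem_support_iff.2 hne
        have h5 : (t : A) * hh n = 0 := by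
          have := congrArg (fun z => (decompose 𝒜 z (i + (n + (E + N * d))) : A)) ht
          simp only [Finset.mul_sum, DirectSum.decompose_sum, DirectSum.decompose_zero] at this
          rw [DFinsupp.finsetSum_apply, AddSubgroup.val_finsetSum, Finset.sum_eq_single n] at this
          · rw [DirectSum.decompose_of_mem_same 𝒜 (SetLike.mul_mem_graded hi (hmem n hn))] at this
            simpa using this
          · intro m hm hmn
            exact DirectSum.decompose_of_mem_ne 𝒜 (SetLike.mul_mem_graded hi (hmem m hm)) (by omega)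
          · exact fun h => absurd hn h
        have h6 : toHom (q.coeff n) = 0 := by
          have h7 : algebraMap A L0 (hh n) = 0 :=
            (IsLocalization.map_eq_zero_iff (homCompl 𝒜 P) L0 _).2 ⟨t, h5⟩
          rw [hterm n hn] at h7
          refine ((IsUnit.of_mul_eq_one _ hu).pow n).mul_left_eq_zero.1
            ((IsUnit.mul_left_eq_zero ?_).1 h7)
          exact IsLocalization.map_units L0 (all * w' ^ N)
        refine hne (val_injective _ ?_)
        rw [val_zero, ← hcc, ← HomogeneousLocalization.algebraMap_apply]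
        show GrothLib.ProjStalk27.incl 𝒜 P (mk (cc n)) = 0
        rw [GrothLib.ProjStalk27.incl_mk, IsLocalization.mk'_eq_zero_iff]
        rw [← hcc, toHom_mk, IsLocalization.mk'_eq_zero_iff] at h6
        obtain ⟨r, hr⟩ := h6
        exact ⟨⟨r, r.2.1⟩, hr⟩ }
  haveI : Module.Flat S[X] L0 := IsLocalization.flat L0 (Submonoid.powers (Polynomial.X : S[X]))
  haveI : Module.Flat S L0 := Module.Flat.trans S S[X] L0
  -- the further localisation
  letI : Algebra L0 L := (IsLocalization.map L (RingHom.id A) (show homCompl 𝒜 P ≤ P.primeCompl.comap (RingHom.id A) from homCompl_le 𝒜 P)).toAlgebra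
  haveI : IsScalarTower A L0 L := IsScalarTower.of_algebraMap_eq fun a => (IsLocalization.map_eq (S := L0) (Q := L) (show homCompl 𝒜 P ≤ P.primeCompl.comap (RingHom.id A) from homCompl_le 𝒜 P) a).symm
  haveI : IsScalarTower S L0 L := IsScalarTower.of_algebraMap_eq fun s => by
    obtain ⟨c, rfl⟩ := mk_surjective s
    show GrothLib.ProjStalk27.incl 𝒜 P (mk c) = IsLocalization.map L (RingHom.id A) _ (toHom (mk c))
    rw [GrothLib.ProjStalk27.incl_mk, toHom_mk, IsLocalization.map_mk']
    rfl
  haveI := IsLocalization.isLocalization_of_submonoid_le L0 L (homCompl 𝒜 P) P.primeCompl (homCompl_le 𝒜 P)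
  haveI : Module.Flat L0 L := IsLocalization.flat L (P.primeCompl.map (algebraMap A L0))
  exact Module.Flat.trans S L0 L

/-- Stalks of `Proj` of a Gorenstein ring under condition (#) are Gorenstein. -/
theorem gorenstein_homogeneousLocalization (hA : LocCoh.IsGorensteinLocalRing (Localization.AtPrime P))
    (h : ¬ (HomogeneousIdeal.irrelevant 𝒜).toIdeal ≤ P)
    (hsharp : ∃ d₀ : ℕ, ∀ d : ℕ, d₀ ≤ d → ∀ (n : ℕ), 1 ≤ n → ∀ a ∈ 𝒜 ((n + 1) * d),
      a ∈ AddSubgroup.closure {x | ∃ b ∈ 𝒜 d, ∃ c ∈ 𝒜 (n * d), b * c = x}) :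
    LocCoh.IsGorensteinLocalRing (HomogeneousLocalization.AtPrime 𝒜 P) := by
  obtain ⟨d₀, hd₀⟩ := hsharp
  have hex : ∀ d, d₀ ≤ d → 0 < d → ∃ v ∈ 𝒜 d, v ∉ P := by
    intro d hd hpos
    by_contra hall
    push Not at hall
    obtain ⟨e, f, he, hf, hfP⟩ := GrothLib.ProjStalk27.exists_deg_pos 𝒜 P h
    have hmem : ∀ k, ∀ a ∈ 𝒜 ((k + 1) * d), a ∈ P := by
      intro k
      rcases Nat.eq_zero_or_pos k with rfl | hk
      · intro a ha; exact hall a (by simpa using ha)
      intro a ha
      refine (AddSubgroup.closure_le (K := P.toAddSubgroup)).2 ?_ (hd₀ d hd k hk a ha)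
      rintro x ⟨b, hb, c, -, rfl⟩
      exact P.mul_mem_right c (hall b hb)
    obtain ⟨k, hk⟩ : ∃ k, e = k + 1 := ⟨e - 1, by omega⟩
    exact hfP ((Ideal.IsPrime.mem_of_pow_mem ‹_› d (hmem k (f ^ d) (by
      have := SetLike.pow_mem_graded d hf
      rwa [smul_eq_mul, mul_comm, hk] at this))))
  obtain ⟨w, hw, hwP⟩ := hex (d₀ + 1) (by omega) (by omega)
  obtain ⟨v, hv, hvP⟩ := hex (d₀ + 1 + 1) (by omega) (by omega)
  haveI := flat_incl hv hvP hw hwP
  haveI : IsNoetherianRing (HomogeneousLocalization.AtPrime 𝒜 P) := by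
    haveI := hA.toIsNoetherian
    exact (GrothLib.ProjStalk27.pure_incl 𝒜 P).isNoetherianRing
  haveI : IsNoetherianRing (Localization.AtPrime P) := hA.toIsNoetherian
  haveI : IsLocalHom (algebraMap (HomogeneousLocalization.AtPrime 𝒜 P) (Localization.AtPrime P)) :=
    ⟨fun z hz => (HomogeneousLocalization.isUnit_iff_isUnit_val 𝒜 P z).1 hz⟩
  exact ((GrothLib.GorFlat.gorenstein_flat_local_iff _ _).1 hA).1

end GrothLib.ProjGor
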